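import Groth.Agent.GeomIrred.Basic
import Groth.Prelude.Def_CAlgX

/-!
# Geometrically irreducible field extensions
-/

universe u

open TensorProduct PrimeSpectrum Polynomial

namespace Groth.Agent.CAlgGeomIrr

variable {k K : Type u} [Field k] [Field K] [Algebra k K]

/-- A monic polynomial over `k` irreducible over `k` and separable stays irreducible over `K`
if `k` is separably closed in `K`. -/
theorem irreducible_map (h : ∀ α : K, IsSeparable k α → α ∈ Set.range (algebraMap k K))
    {f : k[X]} (hfm : f.Monic) (hf : Irreducible f) (hfs : f.Separable) :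
    Irreducible (f.map (algebraMap k K)) := by
  classical
  refine (irreducible_of_monic (hfm.map _) ?_).2 ?_
  · intro h1
    have := congrArg Polynomial.natDegree h1
    rw [natDegree_map, natDegree_one] at this
    exact hf.natDegree_pos.ne' this
  intro g g' hgm hgm' hmul
  let Ω := AlgebraicClosure K
  let E : IntermediateField k Ω := separableClosure k Ω
  have hrange : ∀ i, g.coeff i ∈ Set.range (algebraMap k K) := fun i => by
    apply h
    have hsplit : (g.map (algebraMap K Ω)).Splits := IsAlgClosed.splits _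
    have hroots : ∀ r ∈ (g.map (algebraMap K Ω)).roots, r ∈ E := fun r hr => by
      rw [mem_separableClosure_iff]
      have hr' : aeval r g = 0 := by
        have := (mem_roots'.1 hr).2
        rwa [IsRoot.def, eval_map, ← aeval_def] at this
      have hfr : aeval r f = 0 := by
        rw [← aeval_map_algebraMap K r f, ← hmul, map_mul, hr', zero_mul]
      exact Separable.of_dvd hfs (minpoly.dvd k r hfr)
    have hg : g.map (algebraMap K Ω) ∈ Polynomial.lifts E.val.toRingHom := by
      rw [hsplit.eq_prod_roots_of_monic (hgm.map _)]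
      refine multiset_prod_mem _ fun p hp => ?_
      obtain ⟨r, hr, rfl⟩ := Multiset.mem_map.1 hp
      exact ⟨Polynomial.X - C ⟨r, hroots r hr⟩, by simp⟩
    rw [lifts_iff_coeff_lifts] at hg
    obtain ⟨c, hc⟩ := hg i
    rw [coeff_map] at hc
    have hsep : IsSeparable k (algebraMap K Ω (g.coeff i)) := by
      rw [← hc]; exact mem_separableClosure_iff.1 c.2
    exact IsSeparable.of_algHom (IsScalarTower.toAlgHom k K Ω) hsep
  obtain ⟨g₀, hg₀, -, hg₀m⟩ := lifts_and_degree_eq_and_monic ((lifts_iff_coeff_lifts g).2 hrange) hgm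
  have hdvd : g₀ ∣ f := by
    rw [← map_dvd_map' (algebraMap k K), hg₀]
    exact ⟨g', hmul.symm⟩
  rcases hf.dvd_iff.1 hdvd with hu | ha
  · left
    rw [← hg₀, hg₀m.eq_one_of_isUnit hu, Polynomial.map_one]
  · right
    have heq : g₀ = f := (eq_of_monic_of_associated hfm hg₀m ha).symm
    rw [← hg₀, heq] at hmul
    exact (mul_eq_left₀ (hfm.map _).ne_zero).1 hmul

theorem isDomain_tensor_of_separable (h : ∀ α : K, IsSeparable k α → α ∈ Set.range (algebraMap k K))
    (k' : Type u) [Field k'] [Algebra k k'] [Module.Finite k k'] [Algebra.IsSeparable k k'] :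
    IsDomain (K ⊗[k] k') := by
  obtain ⟨β, hβ⟩ := Field.exists_primitive_element k k'
  have hint : IsIntegral k β := IsIntegral.of_finite k β
  let f := minpoly k β
  haveI : Fact (Irreducible (f.map (algebraMap k K))) :=
    ⟨irreducible_map h (minpoly.monic hint) (minpoly.irreducible hint) (Algebra.IsSeparable.isSeparable k β)⟩
  let ψ : AdjoinRoot (f.map (algebraMap k K)) →+* K ⊗[k] k' :=
    AdjoinRoot.lift (algebraMap K (K ⊗[k] k')) ((1 : K) ⊗ₜ β) (by
      rw [eval₂_map, ← IsScalarTower.algebraMap_eq, ← aeval_def]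
      show aeval ((Algebra.TensorProduct.includeRight : k' →ₐ[k] K ⊗[k] k') β) f = 0
      rw [aeval_algHom_apply, minpoly.aeval, map_zero])
  have hgen : ∀ x : k', ∃ p : k[X], aeval β p = x := fun x => by
    have hx : x ∈ IntermediateField.adjoin k {β} := by rw [hβ]; trivial
    rw [← IntermediateField.mem_toSubalgebra,
      IntermediateField.adjoin_simple_toSubalgebra_of_isAlgebraic hint.isAlgebraic,
      Algebra.adjoin_singleton_eq_range_aeval] at hx
    exact hx
  have hsurj : Function.Surjective ψ := fun z => by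
    induction z using TensorProduct.induction_on with
    | zero => exact ⟨0, map_zero _⟩
    | tmul a x =>
      obtain ⟨p, rfl⟩ := hgen x
      refine ⟨AdjoinRoot.of _ a * AdjoinRoot.mk _ (p.map (algebraMap k K)), ?_⟩
      rw [map_mul, AdjoinRoot.lift_of, AdjoinRoot.lift_mk, eval₂_map, ← IsScalarTower.algebraMap_eq,
        ← aeval_def, Algebra.TensorProduct.algebraMap_apply, Algebra.algebraMap_self, RingHom.id_apply]
      have := aeval_algHom_apply (Algebra.TensorProduct.includeRight : k' →ₐ[k] K ⊗[k] k') β p
      rw [Algebra.TensorProduct.includeRight_apply, Algebra.TensorProduct.includeRight_apply] at this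
      rw [this, Algebra.TensorProduct.tmul_mul_tmul, mul_one, one_mul]
    | add a b ha hb =>
      obtain ⟨a', ha'⟩ := ha
      obtain ⟨b', hb'⟩ := hb
      exact ⟨a' + b', by rw [map_add, ha', hb']⟩
  haveI : Nontrivial (K ⊗[k] k') :=
    (Algebra.TensorProduct.includeLeft_injective (S := k) (A := K) (B := k') (algebraMap k k').injective).nontrivial
  exact MulEquiv.isDomain (AdjoinRoot (f.map (algebraMap k K)))
    (RingEquiv.ofBijective ψ ⟨RingHom.injective ψ, hsurj⟩).toMulEquiv.symm

theorem irreducible_of_forall (h : ∀ α : K, IsSeparable k α → α ∈ Set.range (algebraMap k K))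
    (k' : Type u) [Field k'] [Algebra k k'] : IrreducibleSpace (PrimeSpectrum (k' ⊗[k] K)) := by
  refine GeomIrred.of_algClosure (GeomIrred.algClosure_of_sepClosure (GeomIrred.sepClosure_of_finite ?_)) k'
  intro L _ _ _ _
  haveI := isDomain_tensor_of_separable h L
  haveI : IsDomain (L ⊗[k] K) := MulEquiv.isDomain (K ⊗[k] L) (Algebra.TensorProduct.comm k L K).toRingEquiv.toMulEquiv
  infer_instance

theorem mem_range_of_irreducible
    (h : ∀ (k' : Type u) [Field k'] [Algebra k k'], IrreducibleSpace (PrimeSpectrum (k' ⊗[k] K)))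
    (α : K) (hα : IsSeparable k α) : α ∈ Set.range (algebraMap k K) := by
  have hint : IsIntegral k α := hα.isIntegral
  let L : IntermediateField k K := IntermediateField.adjoin k {α}
  haveI : Algebra.IsSeparable k L := IntermediateField.isSeparable_adjoin_simple_iff_isSeparable k K |>.2 hα
  haveI : FiniteDimensional k L := IntermediateField.adjoin.finiteDimensional hint
  let f : L ⊗[k] L →ₐ[k] L ⊗[k] K := Algebra.TensorProduct.map (AlgHom.id k L) L.val
  have hf : Function.Injective f :=
    Module.Flat.lTensor_preserves_injective_linearMap (M := L) L.val.toLinearMap Subtype.val_injective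
  have hirr := GeomIrred.of_injective (A := L ⊗[k] L) f.toRingHom hf (h L)
  haveI : Algebra.FormallyUnramified k L := (Algebra.FormallyUnramified.iff_isSeparable (K := k) L).2 inferInstance
  haveI : Algebra.FormallyUnramified L (L ⊗[k] L) := inferInstance
  haveI : IsReduced (L ⊗[k] L) := Algebra.FormallyUnramified.isReduced_of_field L (L ⊗[k] L)
  rw [irreducibleSpace_iff_isPrime_nilradical, nilradical_eq_zero, Ideal.zero_eq_bot] at hirr
  haveI : IsDomain (L ⊗[k] L) := IsDomain.of_bot_isPrime (L ⊗[k] L) (hbp := hirr)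
  have hfield : IsField (L ⊗[k] L) := isField_of_isIntegral_of_isField' (R := L) (S := L ⊗[k] L) (Field.toIsField L)
  have hinj : Function.Injective (Algebra.TensorProduct.lmul' k : L ⊗[k] L →ₐ[k] L) := by
    refine (injective_iff_map_eq_zero _).2 fun x hx => ?_
    by_contra h0
    obtain ⟨y, hy⟩ := hfield.mul_inv_cancel h0
    have h1 := congrArg (Algebra.TensorProduct.lmul' k : L ⊗[k] L →ₐ[k] L) hy
    rw [map_mul, hx, zero_mul, map_one] at h1
    exact zero_ne_one h1
  have hrank := LinearMap.finrank_le_finrank_of_injective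
    (f := (Algebra.TensorProduct.lmul' k : L ⊗[k] L →ₐ[k] L).toLinearMap) hinj
  rw [Module.finrank_tensorProduct] at hrank
  have hpos : 0 < Module.finrank k L := Module.finrank_pos
  have h1 : Module.finrank k L = 1 := by nlinarith
  rw [IntermediateField.finrank_eq_one_iff] at h1
  exact IntermediateField.mem_bot.1 (h1 ▸ IntermediateField.mem_adjoin_simple_self k α)

theorem hasUniqueMinimalPrime_iff {A : Type u} [CommRing A] :
    CAlgX.HasUniqueMinimalPrime A ↔ (nilradical A).IsPrime := by
  constructor
  · rintro ⟨P, hP, huniq⟩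
    have h1 : minimalPrimes A = {P} := Set.eq_singleton_iff_unique_mem.2 ⟨hP, huniq⟩
    have h2 := Ideal.sInf_minimalPrimes (I := (⊥ : Ideal A))
    rw [show (⊥ : Ideal A).minimalPrimes = minimalPrimes A from rfl, h1, sInf_singleton] at h2
    rw [nilradical, Ideal.zero_eq_bot, ← h2]
    exact hP.1.1
  · intro h
    refine ⟨nilradical A, ⟨⟨h, bot_le⟩, fun J hJ _ => ?_⟩, fun P hP => ?_⟩
    · haveI := hJ.1; exact nilradical_le_prime J
    · haveI := hP.1.1
      exact le_antisymm (hP.2 ⟨h, bot_le⟩ (nilradical_le_prime P)) (nilradical_le_prime P)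

theorem hasUniqueMinimalPrime_tensor {k R S : Type u} [Field k] [IsSepClosed k] [CommRing R] [CommRing S]
    [Algebra k R] [Algebra k S] (hR : CAlgX.HasUniqueMinimalPrime R) (hS : CAlgX.HasUniqueMinimalPrime S) :
    CAlgX.HasUniqueMinimalPrime (R ⊗[k] S) := by
  rw [hasUniqueMinimalPrime_iff] at hR hS ⊢
  haveI := hR
  haveI := hS
  let R₁ := R ⧸ nilradical R
  let S₁ := S ⧸ nilradical S
  let qR : R →ₐ[k] R₁ := Ideal.Quotient.mkₐ k _
  let qS : S →ₐ[k] S₁ := Ideal.Quotient.mkₐ k _
  let f : R ⊗[k] S →ₐ[k] R₁ ⊗[k] S₁ := Algebra.TensorProduct.map qR qS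
  let F := FractionRing R₁
  let G := FractionRing S₁
  let g : R₁ ⊗[k] S₁ →ₐ[k] F ⊗[k] G :=
    Algebra.TensorProduct.map (IsScalarTower.toAlgHom k R₁ F) (IsScalarTower.toAlgHom k S₁ G)
  have hg : Function.Injective g := by
    have h1 : Function.Injective (LinearMap.rTensor S₁ (IsScalarTower.toAlgHom k R₁ F).toLinearMap) :=
      Module.Flat.rTensor_preserves_injective_linearMap _ (IsFractionRing.injective R₁ F)
    have h2 : Function.Injective (LinearMap.lTensor F (IsScalarTower.toAlgHom k S₁ G).toLinearMap) :=
      Module.Flat.lTensor_preserves_injective_linearMap _ (IsFractionRing.injective S₁ G)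
    intro x y hxy
    apply h1
    apply h2
    have key : ∀ z : R₁ ⊗[k] S₁, LinearMap.lTensor F (IsScalarTower.toAlgHom k S₁ G).toLinearMap
        (LinearMap.rTensor S₁ (IsScalarTower.toAlgHom k R₁ F).toLinearMap z) = g z := fun z => by
      induction z using TensorProduct.induction_on with
      | zero => simp
      | tmul a b => simp [g]
      | add a b ha hb => simp [ha, hb]
    rw [key, key]
    exact hxy
  have hFG : IrreducibleSpace (PrimeSpectrum (F ⊗[k] G)) :=
    irreducible_of_forall (fun α hα => ?_) F
  · have h3 := GeomIrred.of_injective g.toRingHom hg hFG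
    rw [irreducibleSpace_iff_isPrime_nilradical] at h3
    have h4 : nilradical (R ⊗[k] S) = (nilradical (R₁ ⊗[k] S₁)).comap f := by
      refine le_antisymm (fun x hx => mem_nilradical.2 ((mem_nilradical.1 hx).map f)) fun x hx => ?_
      rw [Ideal.mem_comap, mem_nilradical] at hx
      obtain ⟨n, hn⟩ := hx
      rw [← map_pow] at hn
      have h5 : x ^ n ∈ RingHom.ker f := hn
      rw [Algebra.TensorProduct.map_ker _ _ Ideal.Quotient.mk_surjective Ideal.Quotient.mk_surjective] at h5
      have h6 : (RingHom.ker qR).map (Algebra.TensorProduct.includeLeft : R →ₐ[k] R ⊗[k] S) ⊔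
          (RingHom.ker qS).map (Algebra.TensorProduct.includeRight : S →ₐ[k] R ⊗[k] S) ≤ nilradical (R ⊗[k] S) := by
        refine sup_le ?_ ?_ <;> rw [Ideal.map_le_iff_le_comap] <;> intro y hy <;>
          rw [RingHom.mem_ker, Ideal.Quotient.mkₐ_eq_mk, Ideal.Quotient.eq_zero_iff_mem, mem_nilradical] at hy <;>
          exact mem_nilradical.2 (hy.map _)
      exact mem_nilradical.2 (IsNilpotent.of_pow (mem_nilradical.1 (h6 h5)))
    rw [h4]
    exact h3.comap f
  · obtain ⟨c, hc⟩ := IsSepClosed.exists_root (minpoly k α) (by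
      intro h0
      exact (minpoly.degree_pos hα.isIntegral).ne' h0) hα
    have h1 : minpoly k α = Polynomial.X - C c := by
      symm
      refine eq_of_monic_of_associated (monic_X_sub_C c) (minpoly.monic hα.isIntegral) ?_
      exact ((irreducible_X_sub_C c).associated_of_dvd (minpoly.irreducible hα.isIntegral)
        (dvd_iff_isRoot.2 hc))
    have h2 := minpoly.aeval k α
    rw [h1, map_sub, aeval_X, aeval_C, sub_eq_zero] at h2
    exact ⟨c, h2.symm⟩

end Groth.Agent.CAlgGeomIrr
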